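import Groth.Agent.PairVanLib.Flat
import Groth.Agent.AVVanishLib.Basic
import Groth.Agent.FormalCohLib.Counit
import Groth.Agent.ProjFormLib.Proj
import Groth.Agent.AmpleDevLib.Pull
import Groth.Agent.RpushLib.Compare
import Groth.Agent.SerreVanLib.Rpush
import Groth.Agent.CubeConsLib.IsoCls

/-!
# Uniform vanishing through a contraction with acyclic fibres
-/

set_option autoImplicit false
set_option linter.style.haveILetI false
set_option backward.isDefEq.respectTransparency false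
set_option backward.isDefEq.respectTransparency.types false
set_option maxHeartbeats 1000000
universe u

open CategoryTheory CategoryTheory.Limits AlgebraicGeometry TopologicalSpace Opposite
open HilbPolyLib
open CubeConsLib (cl cl_eq_iff cl_tensor pull pull_cl)

noncomputable section

namespace PairVanLib

variable {X Y : Scheme.{u}}

/-- The vanishing on an affine chart of the base. -/
theorem exists_bound_twist [IsNoetherian X] [IsNoetherian Y] (ψ : X ⟶ Y) [IsProper ψ]
    {L M : X.Modules} (hL : PicF.IsInvertible L) (hM : PicF.IsInvertible M)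
    {N : Y.Modules} (hNi : PicF.IsInvertible N) (hN : CohB1.IsAmple N) {ℓ : ℕ} (hℓ : 0 < ℓ)
    (eN : (Scheme.Modules.pullback ψ).obj N ≅ CohB1.tensorPow L ℓ) {P : X.Modules} (hP : PicF.IsInvertible P) {c : ℕ}
    (hvanM : ∀ G : X.Modules, Coh.IsCoh G → ∃ n₀ : ℕ, ∀ n : ℕ, n₀ ≤ n → ∀ p : ℕ, 0 < p →
      Subsingleton (Coh.HH X (CohB1.tensorMod G (CohB1.tensorPow M n)) p))
    (hvanN : ∀ G : Y.Modules, Coh.IsCoh G → ∃ n₀ : ℕ, ∀ n : ℕ, n₀ ≤ n → ∀ p : ℕ, 0 < p →
      Subsingleton (Coh.HH Y (CohB1.tensorMod G (CohB1.tensorPow N n)) p))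
    (hz : ∀ a b i : ℕ, 1 ≤ i → i ≤ c → IsZero ((Coh.Rpush ψ i).obj (CohB1.tensorMod (W L M a b) P))) :
    ∃ n : ℕ, ∀ a b i : ℕ, n ≤ max a b → 1 ≤ i → i ≤ c → Subsingleton (Coh.HH X (CohB1.tensorMod (W L M a b) P) i) := by
  classical
  obtain ⟨B, hB⟩ := exists_bound hM hL hvanM (fun x => sections_pullback ψ hN hℓ eN x) P (CurvLib.isCoh_of_isInvertible hP)
  choose q₀ hq₀ using fun p : Fin ℓ × Fin B => hvanN ((Scheme.Modules.pushforward ψ).obj (CohB1.tensorMod (W L M p.1 p.2) P))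
    (FormalCohLib.isCoh_push_proper ψ (CurvLib.isCoh_of_isInvertible
      (isInvertible_tensor (isInvertible_tensor (AmpleThLib.tensorPow_isInvertible hL _) (AmpleThLib.tensorPow_isInvertible hM _)) hP)))
  refine ⟨B + ℓ * (∑ p, q₀ p + 1), fun a b i hn hi hic => ?_⟩
  rcases le_or_gt B b with hb | hb
  · exact SerreVanLib.subsingleton_HH_of_iso
      (congrLeft (swapIso _ _) P) i (hB b hb a i hi)
  have ha : ℓ * (∑ p, q₀ p + 1) ≤ a := by omega
  have hq : ∑ p, q₀ p + 1 ≤ a / ℓ := (Nat.le_div_iff_mul_le hℓ).mpr (by rwa [mul_comm] at ha)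
  let r : Fin ℓ := ⟨a % ℓ, Nat.mod_lt _ hℓ⟩
  have hq' : q₀ (r, ⟨b, hb⟩) ≤ a / ℓ := by
    have := Finset.single_le_sum (f := q₀) (fun _ _ => Nat.zero_le _) (Finset.mem_univ (r, (⟨b, hb⟩ : Fin B)))
    omega
  have hNq := AmpleThLib.tensorPow_isInvertible hNi (a / ℓ)
  have hW : ∀ a b : ℕ, Coh.IsQCoh (CohB1.tensorMod (W L M a b) P) := fun a b => (CurvLib.isCoh_of_isInvertible
    (isInvertible_tensor (isInvertible_tensor (AmpleThLib.tensorPow_isInvertible hL a) (AmpleThLib.tensorPow_isInvertible hM b)) hP)).1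
  haveI := hW (a % ℓ) b
  -- the direct image
  obtain ⟨e₁⟩ := cl_eq_iff.1 (show cl (CohB1.tensorMod ((Scheme.Modules.pullback ψ).obj
      (CohB1.tensorPow N (a / ℓ))) (CohB1.tensorMod (W L M (a % ℓ) b) P)) = cl (CohB1.tensorMod (W L M a b) P) by
    rw [cl_tensor, cl_tensor, cl_tensor, cl_tensor, cl_tensor, ← pull_cl, cl_tensorPow', map_pow, pull_cl,
      cl_eq_iff.2 ⟨eN⟩, cl_tensorPow', cl_tensorPow', cl_tensorPow', ← pow_mul,
      cl_tensorPow', ← mul_assoc, ← mul_assoc, ← pow_add, Nat.div_add_mod])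
  let π₀ : (Scheme.Modules.pushforward ψ).obj (CohB1.tensorMod (W L M a b) P) ≅
      CohB1.tensorMod ((Scheme.Modules.pushforward ψ).obj (CohB1.tensorMod (W L M (a % ℓ) b) P)) (CohB1.tensorPow N (a / ℓ)) :=
    (Scheme.Modules.pushforward ψ).mapIso e₁.symm ≪≫
      ((ProjFormLib.projIso' ψ (CohB1.tensorPow N (a / ℓ)) (AmpleDevLib.isFinLocFree_of_isInvertible hNq)).app (CohB1.tensorMod (W L M (a % ℓ) b) P)).symm ≪≫
      swapIso _ _
  refine LerayLowLib.subsingleton_H_of_antidiagonal ψ.base (Coh.toAb (CohB1.tensorMod (W L M a b) P)) i fun p j hpj => ?_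
  rcases Nat.eq_zero_or_pos j with hj | hj
  · subst hj
    obtain ⟨e⟩ := RpushLib.nonempty_toAb_rpush_iso ψ (CohB1.tensorMod (W L M a b) P) 0
    have h0 : Subsingleton (Coh.HH Y ((Coh.Rpush ψ 0).obj (CohB1.tensorMod (W L M a b) P)) p) :=
      SerreVanLib.subsingleton_HH_of_iso ((Scheme.Modules.pushforward ψ).rightDerivedZeroIsoSelf.app _ ≪≫ π₀) p
        (hq₀ (r, ⟨b, hb⟩) (a / ℓ) hq' p (by omega))
    exact Function.Injective.subsingleton (f := Sheaf.H.map e.inv p) fun s t hst => by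
      have := congrArg (Sheaf.H.map e.hom p) hst
      rw [← Sheaf.H.map_comp_apply, ← Sheaf.H.map_comp_apply, e.inv_hom_id, Sheaf.H.map_id_apply,
        Sheaf.H.map_id_apply] at this
      exact this
  · exact AVVanishLib.subsingleton_H_of_isZero
      (AVVanishLib.rpushAb_isZero ψ (CohB1.tensorMod (W L M a b) P) j (hz a b j hj (by omega))) p

end PairVanLib

end
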