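import Groth.Agent.PairVanLib.Flat
import Groth.Agent.ContrFibLib.Twist

/-!
# Vanishing of twisted higher direct images through a flat contraction
-/

set_option autoImplicit false
universe u
open CategoryTheory CategoryTheory.Limits AlgebraicGeometry Opposite TopologicalSpace

noncomputable section

namespace ContrFibLib

theorem cl_restrict {X : Scheme.{u}} (V : X.Opens) (M : X.Modules) :
    CubeConsLib.cl (M.restrict V.ι) = CubeConsLib.pull V.ι (CubeConsLib.cl M) :=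
  CubeConsLib.cl_eq_iff.2 ⟨(Scheme.Modules.restrictFunctorIsoPullback V.ι).app M⟩

theorem exists_rpush_bound {X Y S : Scheme.{u}} [IsNoetherian S]
    (π : X ⟶ S) [IsProper π] (q : Y ⟶ S) [IsProper q] (ψ : X ⟶ Y) [Flat ψ] (hψ : ψ ≫ q = π)
    [HasInjectiveResolutions X.Modules]
    (L : X.Modules) (hLi : PicF.IsInvertible L) (N : Y.Modules) (hNi : PicF.IsInvertible N) (hN : RelAmple.IsRelAmple q N)
    (ℓ : ℕ) (hℓ : 0 < ℓ) (eN : Nonempty ((Scheme.Modules.pullback ψ).obj N ≅ CohB1.tensorPow L ℓ))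
    (M : X.Modules) (hMi : PicF.IsInvertible M) (hM : RelAmple.IsRelAmple π M)
    (P : X.Modules) (hP : PicF.IsInvertible P)
    (c : ℕ) (hfib : ∀ (y : Y) (i a b : ℕ), 1 ≤ i → i ≤ c →
      Subsingleton (CohIII.fiberH ψ (CohB1.tensorMod (PairVanLib.W L M a b) P) y i)) :
    ∃ n : ℕ, ∀ (i a b : ℕ), 1 ≤ i → i ≤ c → n ≤ max a b →
      IsZero ((Coh.Rpush π i).obj (CohB1.tensorMod (PairVanLib.W L M a b) P)) := by
  subst hψ
  obtain ⟨eN⟩ := eN
  haveI : IsLocallyNoetherian X := LocallyOfFiniteType.isLocallyNoetherian (ψ ≫ q)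
  haveI : IsLocallyNoetherian Y := LocallyOfFiniteType.isLocallyNoetherian q
  haveI : UniversallyClosed ψ := .of_comp_of_isSeparated ψ q
  haveI : IsSeparated ψ := IsSeparated.of_comp ψ q
  haveI : LocallyOfFiniteType ψ := locallyOfFiniteType_of_comp ψ q
  haveI : IsProper ψ := {}
  haveI : LocallyOfFinitePresentation ψ := LocallyOfFinitePresentation.iff_locallyOfFiniteType.2 inferInstance
  have hW : ∀ a b : ℕ, PicF.IsInvertible (CohB1.tensorMod (PairVanLib.W L M a b) P) := fun a b =>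
    HilbPolyLib.isInvertible_tensor (HilbPolyLib.isInvertible_tensor (AmpleThLib.tensorPow_isInvertible hLi a) (AmpleThLib.tensorPow_isInvertible hMi b)) hP
  have hz : ∀ a b i : ℕ, 1 ≤ i → i ≤ c → IsZero ((Coh.Rpush ψ i).obj (CohB1.tensorMod (PairVanLib.W L M a b) P)) := by
    intro a b i hi hic
    obtain ⟨hq', hfp, hfl⟩ := CohCmpLib.rank_one_hyps ψ ((CohCmpLib.invertible_iff_rank_one _).1 (hW a b))
    haveI := hq'
    exact CohCmpLib.isZero_rpush_of_fibre hfp hfl i fun y => hfib y i a b hi hic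
  have hloc : ∀ W : S.affineOpens, ∃ n₀ : ℕ, ∀ a b i : ℕ, n₀ ≤ max a b → 1 ≤ i → i ≤ c →
      Subsingleton (Coh.HHon X (CohB1.tensorMod (PairVanLib.W L M a b) P) ((ψ ≫ q) ⁻¹ᵁ W.1) i) := by
    intro W
    let V := q ⁻¹ᵁ W.1
    haveI : IsNoetherianRing Γ(S, W.1) := IsLocallyNoetherian.component_noetherian W
    haveI : IsProper (q ∣_ W.1) := IsZariskiLocalAtTarget.restrict ‹_› W.1
    haveI : IsProper (RpushLib.overW q W.2) := by unfold RpushLib.overW; infer_instance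
    haveI : IsProper ((ψ ≫ q) ∣_ W.1) := IsZariskiLocalAtTarget.restrict ‹_› W.1
    haveI : IsProper (RpushLib.overW (ψ ≫ q) W.2) := by unfold RpushLib.overW; infer_instance
    haveI : IsProper (ψ ∣_ V) := IsZariskiLocalAtTarget.restrict ‹_› V
    haveI : CompactSpace (V : Scheme.{u}) := isCompact_iff_compactSpace.mp (q.isCompact_preimage W.2.isCompact)
    haveI : IsLocallyNoetherian (V : Scheme.{u}) := LocallyOfFiniteType.isLocallyNoetherian V.ι
    haveI : AlgebraicGeometry.IsNoetherian (V : Scheme.{u}) := {}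
    haveI : CompactSpace (ψ ⁻¹ᵁ V : Scheme.{u}) :=
      isCompact_iff_compactSpace.mp ((ψ ≫ q).isCompact_preimage W.2.isCompact)
    haveI : IsLocallyNoetherian (ψ ⁻¹ᵁ V : Scheme.{u}) := LocallyOfFiniteType.isLocallyNoetherian (ψ ⁻¹ᵁ V).ι
    haveI : AlgebraicGeometry.IsNoetherian (ψ ⁻¹ᵁ V : Scheme.{u}) := {}
    have hLV := AmpleThLib.restrict_isInvertible hLi (ψ ⁻¹ᵁ V).ι
    have hMV := AmpleThLib.restrict_isInvertible hMi (ψ ⁻¹ᵁ V).ι
    have hNV := AmpleThLib.restrict_isInvertible hNi V.ι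
    have eR : ∀ a b : ℕ, Nonempty ((CohB1.tensorMod (PairVanLib.W L M a b) P).restrict (ψ ⁻¹ᵁ V).ι ≅
        CohB1.tensorMod (PairVanLib.W (L.restrict (ψ ⁻¹ᵁ V).ι) (M.restrict (ψ ⁻¹ᵁ V).ι) a b) (P.restrict (ψ ⁻¹ᵁ V).ι)) := fun a b => by
      refine CubeConsLib.cl_eq_iff.1 ?_
      rw [CubeConsLib.cl_tensor, CubeConsLib.cl_tensor]
      simp only [ContrFibLib.cl_restrict, CubeConsLib.cl_tensor, PairVanLib.cl_tensorPow', map_mul, map_pow]
    obtain ⟨eψ⟩ : Nonempty ((Scheme.Modules.pullback (ψ ∣_ V)).obj (N.restrict V.ι) ≅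
        CohB1.tensorPow (L.restrict (ψ ⁻¹ᵁ V).ι) ℓ) := by
      obtain ⟨e, -⟩ := AmpleThLib.exists_restrIso hLi (ψ ⁻¹ᵁ V).ι ℓ
      exact ⟨(Scheme.Modules.pullback (ψ ∣_ V)).mapIso ((Scheme.Modules.restrictFunctorIsoPullback V.ι).app N) ≪≫
        (Scheme.Modules.pullbackComp (ψ ∣_ V) V.ι).app N ≪≫
        (Scheme.Modules.pullbackCongr (morphismRestrict_ι ψ V)).app N ≪≫
        ((Scheme.Modules.pullbackComp (ψ ⁻¹ᵁ V).ι ψ).app N).symm ≪≫
        (Scheme.Modules.pullback (ψ ⁻¹ᵁ V).ι).mapIso eN ≪≫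
        ((Scheme.Modules.restrictFunctorIsoPullback (ψ ⁻¹ᵁ V).ι).app (CohB1.tensorPow L ℓ)).symm ≪≫ e.symm⟩
    have hz' : ∀ a b i : ℕ, 1 ≤ i → i ≤ c → IsZero ((Coh.Rpush (ψ ∣_ V) i).obj
        (CohB1.tensorMod (PairVanLib.W (L.restrict (ψ ⁻¹ᵁ V).ι) (M.restrict (ψ ⁻¹ᵁ V).ι) a b) (P.restrict (ψ ⁻¹ᵁ V).ι))) := fun a b i hi hic => by
      haveI := (CurvLib.isCoh_of_isInvertible (hW a b)).1
      exact (PairVanLib.isZero_rpush_restrict ψ (CohB1.tensorMod (PairVanLib.W L M a b) P) i (hz a b i hi hic) V).of_iso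
        ((Coh.Rpush (ψ ∣_ V) i).mapIso (eR a b).some.symm)
    obtain ⟨n₀, hn₀⟩ := PairVanLib.exists_bound_twist (ψ ∣_ V) hLV hMV hNV (hN.2 W) hℓ eψ (AmpleThLib.restrict_isInvertible hP (ψ ⁻¹ᵁ V).ι)
      (fun G hG => SerreVanLib.exists_vanishing (RpushLib.overW (ψ ≫ q) W.2) hMV (hM.2 W) G hG)
      (fun G hG => SerreVanLib.exists_vanishing (RpushLib.overW q W.2) hNV (hN.2 W) G hG) hz'
    exact ⟨n₀, fun a b i hab hi hic =>
      SerreVanLib.subsingleton_HH_of_iso (eR a b).some i (hn₀ a b i hab hi hic)⟩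
  choose n₀ hn₀ using hloc
  obtain ⟨t, ht⟩ := isCompact_univ.elim_finite_subcover (fun W : S.affineOpens => (W.1 : Set S))
    (fun W => W.1.2) fun y _ => by
      obtain ⟨W, hW, hy, -⟩ := TopologicalSpace.Opens.isBasis_iff_nbhd.mp S.isBasis_affineOpens
        (show y ∈ (⊤ : S.Opens) from trivial)
      exact Set.mem_iUnion.mpr ⟨⟨W, hW⟩, hy⟩
  refine ⟨t.sum n₀, fun i a b hi hic hab => ?_⟩
  let G := CohB1.tensorMod (PairVanLib.W L M a b) P
  haveI : Coh.IsQCoh G := (CurvLib.isCoh_of_isInvertible (hW a b)).1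
  haveI := RpushLib.isQCoh_Rpush (ψ ≫ q) G i
  refine KFlatLib.isZero_of_stalks fun y => ?_
  obtain ⟨W, hWt, hy⟩ := Set.mem_iUnion₂.mp (ht (Set.mem_univ y))
  have := hn₀ W a b i ((Finset.single_le_sum (fun _ _ => Nat.zero_le _) hWt).trans hab) hi hic
  have hsec : Subsingleton Γ((Coh.Rpush (ψ ≫ q) i).obj G, W.1) :=
    (RpushLib.rpushSectionsEquiv (ψ ≫ q) G i W.2).injective.subsingleton
  exact SerreVanLib.subsingleton_stalk_of_sections ((Coh.Rpush (ψ ≫ q) i).obj G) W.2 hsec hy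

end ContrFibLib

end
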