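import Groth.Agent.ContrFibLib.Bound
import Groth.Agent.S18168
import Groth.Agent.RegConLib.Contract
import Groth.Agent.RDerLib.Delta
import Groth.Agent.RpushLib.Comp
import Groth.Agent.BddFamLib.Push
import Groth.Agent.NormDescLib.Relative
import Groth.Agent.IntMultLib.Cartier
import Groth.Agent.SerreVanLib.Rpush
import Groth.Agent.MiscFlat6.RelAmpleLocal
import Groth.Agent.CohCmpLib.CanonApps
import Groth.Agent.TwistLib.PullGen

/-!
# Flatness of the contraction of a divisor
-/

set_option autoImplicit false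
set_option linter.style.haveILetI false
set_option backward.isDefEq.respectTransparency false
set_option backward.isDefEq.respectTransparency.types false
set_option maxHeartbeats 1000000
universe u

open CategoryTheory CategoryTheory.Limits AlgebraicGeometry Opposite TopologicalSpace
open CubeConsLib (cl cl_eq_iff cl_eq_one_iff cl_tensor pull pull_cl pull_comp)
open PairVanLib (cl_tensorPow')

noncomputable section

namespace ContrFibLib

/-- An invertible module on the spectrum of a field is trivial. -/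
theorem trivial_spec_field {k : Type u} [Field k] {M : (Spec (CommRingCat.of k)).Modules} (hM : PicF.IsInvertible M) :
    Nonempty (M ≅ Coh.structureModule (Spec (CommRingCat.of k))) := by
  obtain ⟨U, e, hx, he⟩ := TwistLib.exists_genOn hM (IsLocalRing.closedPoint k)
  have hU : U = ⊤ := eq_top_iff.mpr fun y _ => by
    rw [Subsingleton.elim y (IsLocalRing.closedPoint k)]
    exact hx
  subst hU
  haveI := AmpleLib.isIso_unitHom e he
  exact ⟨(asIso (QCohLib.unitHom M e)).symm⟩

/-- A module from below is trivial on the fibres. -/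
theorem pull_fiber_pullback {E F : Scheme.{u}} (ψ : E ⟶ F) {G : F.Modules} (hG : PicF.IsInvertible G) (y : F) :
    pull (ψ.fiberι y) (pull ψ (cl G)) = 1 := by
  rw [pull_comp, show ψ.fiberι y ≫ ψ = ψ.fiberToSpecResidueField y ≫ F.fromSpecResidueField y from pullback.condition,
    ← pull_comp, pull_cl (F.fromSpecResidueField y) G]
  obtain ⟨e⟩ := trivial_spec_field (M := (Scheme.Modules.pullback (F.fromSpecResidueField y)).obj G)
    (AmpleDevLib.isInvertible_pb _ hG)
  rw [show cl ((Scheme.Modules.pullback (F.fromSpecResidueField y)).obj G) = 1 from cl_eq_one_iff.2 ⟨e⟩, map_one]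

theorem isZero_rpush_mid {X S : Scheme.{u}} (f : X ⟶ S) [HasInjectiveResolutions X.Modules]
    {T : ShortComplex X.Modules} (hT : T.ShortExact) (i : ℕ)
    (h₁ : IsZero ((Coh.Rpush f i).obj T.X₁)) (h₃ : IsZero ((Coh.Rpush f i).obj T.X₃)) :
    IsZero ((Coh.Rpush f i).obj T.X₂) :=
  ((Groth.Agent.RDerLib.derivedLES (Scheme.Modules.pushforward f)).exact₂ T hT i).isZero_of_both_zeros
    (h₁.eq_of_src _ _) (h₃.eq_of_tgt _ _)

theorem main {X S : Scheme.{u}} [IsNoetherian S] (f : X ⟶ S) [IsProper f] [Flat f]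
    (L0 : X.Modules) (hL0i : PicF.IsInvertible L0) (hL0a : RelAmple.IsRelAmple f L0)
    (I : X.IdealSheafData) (hI : BlowUp.IsEffCartierIdeal I)
    (OE : X.Modules) (hOEi : PicF.IsInvertible OE) (hOE : ClSub.IsInverseOf OE (ClSub.idealMod I))
    (m : ℕ) (hm : 0 < m)
    {F : Scheme.{u}} (g : F ⟶ S) [IsProper g] (ψ : ↑(I.subscheme) ⟶ F) [Flat ψ] (hψg : ψ ≫ g = I.subschemeι ≫ f)
    (G : F.Modules) (hGi : PicF.IsInvertible G) (hGa : RelAmple.IsRelAmple g G) (r : ℕ) (hr : 0 < r)
    (eG : Nonempty ((Scheme.Modules.pullback ψ).obj G ≅ CohB1.tensorPow (CohB1.tensorMod ((Scheme.Modules.pullback I.subschemeι).obj L0) (CohB1.tensorPow ((Scheme.Modules.pullback I.subschemeι).obj OE) m)) r))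
    (hall : ∀ (y : F) (i n : ℕ), 0 < i → Subsingleton (CohIII.fiberH ψ (CohB1.tensorPow ((Scheme.Modules.pullback I.subschemeι).obj (ClSub.idealMod I)) n) y i))
    (Y : Scheme.{u}) (q : Y ⟶ S) [IsProper q] (π : X ⟶ Y) (hπq : π ≫ q = f) (hπ : ∀ U : Y.Opens, IsIso (π.app U))
    (M : Y.Modules) (hMi : PicF.IsInvertible M) (hMa : RelAmple.IsRelAmple q M) (s : ℕ) (hs : 0 < s)
    (e : Nonempty ((Scheme.Modules.pullback π).obj M ≅ CohB1.tensorPow (CohB1.tensorMod L0 (CohB1.tensorPow OE m)) s)) :
    Flat q := by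
  haveI : IsLocallyNoetherian X := LocallyOfFiniteType.isLocallyNoetherian f
  haveI : HasInjectiveResolutions X.Modules := inferInstance
  let j := I.subschemeι
  let πE : ↑(I.subscheme) ⟶ S := j ≫ f
  haveI : IsProper πE := inferInstance
  haveI : IsLocallyNoetherian ↑(I.subscheme) := LocallyOfFiniteType.isLocallyNoetherian πE
  haveI : HasInjectiveResolutions (I.subscheme).Modules := inferInstance
  have hIi : PicF.IsInvertible (ClSub.idealMod I) := IntMultLib.isInvertible_idealMod I hI
  let A := (Scheme.Modules.pullback j).obj L0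
  let N := (Scheme.Modules.pullback j).obj OE
  let C := (Scheme.Modules.pullback j).obj (ClSub.idealMod I)
  have hA : PicF.IsInvertible A := AmpleDevLib.isInvertible_pb j hL0i
  have hN : PicF.IsInvertible N := AmpleDevLib.isInvertible_pb j hOEi
  have hC : PicF.IsInvertible C := AmpleDevLib.isInvertible_pb j hIi
  have hOI : cl OE * cl (ClSub.idealMod I) = 1 := cl_eq_one_iff.2 hOE
  have hNC : cl N * cl C = 1 := by
    show cl ((Scheme.Modules.pullback j).obj OE) * cl ((Scheme.Modules.pullback j).obj (ClSub.idealMod I)) = 1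
    rw [← pull_cl, ← pull_cl, ← map_mul, hOI, map_one]
  let LE := CohB1.tensorMod A (CohB1.tensorPow N m)
  have hLE : PicF.IsInvertible LE := HilbPolyLib.isInvertible_tensor hA (AmpleThLib.tensorPow_isInvertible hN m)
  let T := CohB1.tensorPow LE r
  have hT : PicF.IsInvertible T := AmpleThLib.tensorPow_isInvertible hLE r
  let M' := CohB1.tensorPow A r
  have hM' : PicF.IsInvertible M' := AmpleThLib.tensorPow_isInvertible hA r
  have hM'a : RelAmple.IsRelAmple πE M' :=
    (MiscFlat6.isRelAmple_tensorPow_iff πE hA hr).mp (NormDescLib.relAmple_pb j f hL0a)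
  have hTG : pull ψ (cl G) = cl T := (pull_cl ψ G).trans (cl_eq_iff.2 eG)
  -- `A ^ r = T * C ^ (m r)`
  have hAr : cl M' = cl T * cl C ^ (m * r) := by
    simp only [M', T, LE, cl_tensorPow', cl_tensor, mul_pow, ← pow_mul]
    rw [mul_assoc, ← mul_pow, hNC, one_pow, mul_one]
  obtain ⟨c₀, hc₀⟩ := BddFamLib.exists_isZero_rpush πE
  have hbound : ∀ e : Fin (m * r), ∃ n : ℕ, ∀ i a b : ℕ, 1 ≤ i → i ≤ c₀ → n ≤ max a b →
      IsZero ((Coh.Rpush πE i).obj (CohB1.tensorMod (PairVanLib.W T M' a b) (CohB1.tensorPow C e))) := fun e => by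
    refine exists_rpush_bound πE g ψ hψg T hT G hGi hGa 1 one_pos ?_ M' hM' hM'a _
      (AmpleThLib.tensorPow_isInvertible hC e) c₀ fun y i a b hi _ => ?_
    · exact cl_eq_iff.1 ((pull_cl ψ G).symm.trans (hTG.trans ((pow_one _).symm.trans (cl_tensorPow' T 1).symm)))
    · obtain ⟨iso⟩ := cl_eq_iff.1 (show cl (CohIII.fiberMod ψ (CohB1.tensorMod (PairVanLib.W T M' a b) (CohB1.tensorPow C e)) y) =
          cl (CohIII.fiberMod ψ (CohB1.tensorPow C (m * r * b + e)) y) by
        rw [← pull_cl, ← pull_cl]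
        simp only [cl_tensor, cl_tensorPow', map_mul, map_pow, hAr]
        rw [← hTG, pull_fiber_pullback ψ hGi y]
        simp [pow_add, pow_mul])
      haveI := hall y i (m * r * b + e) hi
      exact SerreVanLib.subsingleton_HH_of_iso iso i this
  choose nb hnb using hbound
  obtain ⟨n₀, hn₀⟩ := SerreVanLib.exists_vanishing_rpush f L0 hL0i (fun W hW => hL0a.2 ⟨W, hW⟩)
    (Coh.structureModule X) (DevissLib.isCoh_structureModule X)
  let B := 2 * (∑ x, nb x) + n₀ + 1
  have hE : ∀ t : ℕ, B ≤ t → ∀ c : ℕ, c < m * r * t → ∀ i : ℕ, 0 < i →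
      IsZero ((Coh.Rpush πE i).obj (CohB1.tensorMod (CohB1.tensorPow T t) (CohB1.tensorPow C c))) := by
    intro t ht c hc i hi
    rcases le_or_gt c₀ i with hic | hic
    · exact hc₀ _ (CurvLib.isCoh_of_isInvertible (HilbPolyLib.isInvertible_tensor
        (AmpleThLib.tensorPow_isInvertible hT t) (AmpleThLib.tensorPow_isInvertible hC c))).1 i hic
    have hmr : 0 < m * r := Nat.mul_pos hm hr
    let e : Fin (m * r) := ⟨c % (m * r), Nat.mod_lt _ hmr⟩
    have hq : c / (m * r) ≤ t := Nat.div_le_of_le_mul hc.le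
    have hmax : nb e ≤ max (t - c / (m * r)) (c / (m * r)) := by
      have h1 := Finset.single_le_sum (f := nb) (fun _ _ => Nat.zero_le _) (Finset.mem_univ e)
      simp only [B] at ht
      omega
    obtain ⟨iso⟩ := cl_eq_iff.1 (show cl (CohB1.tensorMod (PairVanLib.W T M' (t - c / (m * r)) (c / (m * r))) (CohB1.tensorPow C e)) =
        cl (CohB1.tensorMod (CohB1.tensorPow T t) (CohB1.tensorPow C c)) by
      simp only [cl_tensor, cl_tensorPow', hAr, mul_pow, ← pow_mul]
      rw [← mul_assoc, ← pow_add, Nat.sub_add_cancel hq, mul_assoc, ← pow_add]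
      exact congrArg (cl T ^ t * cl C ^ ·) (Nat.div_add_mod c (m * r)))
    exact (hnb e i _ _ hi hic.le hmax).of_iso ((Coh.Rpush πE i).mapIso iso.symm)
  have hX : ∀ t : ℕ, B ≤ t → ∀ k : ℕ, k ≤ m * r * t → ∀ i : ℕ, 0 < i →
      IsZero ((Coh.Rpush f i).obj (CohB1.tensorMod (CohB1.tensorPow L0 (r * t)) (CohB1.tensorPow OE k))) := by
    intro t ht k
    induction k with
    | zero =>
      intro _ i hi
      haveI : Coh.IsQCoh (CohB1.tensorPow L0 (r * t)) :=
        (CurvLib.isCoh_of_isInvertible (AmpleThLib.tensorPow_isInvertible hL0i (r * t))).1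
      obtain ⟨iso⟩ := cl_eq_iff.1 (show cl (CohB1.tensorMod (CohB1.tensorPow L0 (r * t)) (CohB1.tensorPow OE 0)) =
          cl (CohB1.tensorMod (Coh.structureModule X) (CohB1.tensorPow L0 (r * t))) by rw [cl_tensor, cl_tensor, mul_comm]; rfl)
      have hn : n₀ ≤ r * t := le_trans (by simp only [B] at ht; omega) (Nat.le_mul_of_pos_left t hr)
      refine IsZero.of_iso ?_ ((Coh.Rpush f i).mapIso iso)
      obtain ⟨e'⟩ := RpushLib.nonempty_toAb_rpush_iso f (CohB1.tensorMod (Coh.structureModule X) (CohB1.tensorPow L0 (r * t))) i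
      exact RpushLib.isZero_of_isZero_toAb ((hn₀ (r * t) hn i hi).of_iso e')
    | succ k ih =>
      intro hk i hi
      let P := CohB1.tensorMod (CohB1.tensorPow L0 (r * t)) (CohB1.tensorPow OE (k + 1))
      have hP : PicF.IsInvertible P := HilbPolyLib.isInvertible_tensor (AmpleThLib.tensorPow_isInvertible hL0i _) (AmpleThLib.tensorPow_isInvertible hOEi _)
      obtain ⟨Sq, hSq, ⟨e₃⟩, e₁, e₂, -⟩ := RegConLib.exists_restrict j hP
      have h1 : IsZero ((Coh.Rpush f i).obj Sq.X₁) := by
        obtain ⟨iso⟩ := cl_eq_iff.1 (show cl (CohB1.tensorMod P (ClSub.idealMod j.ker)) =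
            cl (CohB1.tensorMod (CohB1.tensorPow L0 (r * t)) (CohB1.tensorPow OE k)) by
          rw [show j.ker = I from Scheme.IdealSheafData.ker_subschemeι I]
          simp only [P, cl_tensor, cl_tensorPow', pow_succ]
          rw [mul_assoc, mul_assoc, hOI, mul_one])
        exact (ih (by omega) i hi).of_iso ((Coh.Rpush f i).mapIso (e₁ ≪≫ iso))
      have h3 : IsZero ((Coh.Rpush f i).obj Sq.X₃) := by
        have hz := hE t ht (m * r * t - (k + 1)) (by omega) i hi
        obtain ⟨iso⟩ := cl_eq_iff.1 (show cl ((Scheme.Modules.pullback j).obj P) =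
            cl (CohB1.tensorMod (CohB1.tensorPow T t) (CohB1.tensorPow C (m * r * t - (k + 1)))) by
          rw [← pull_cl]
          simp only [P, T, LE, A, N, C, cl_tensor, cl_tensorPow', map_mul, map_pow, ← pull_cl, mul_pow, ← pow_mul]
          obtain ⟨d, hd⟩ : ∃ d, m * r * t = (k + 1) + d := ⟨_, (Nat.add_sub_cancel' hk).symm⟩
          rw [hd, Nat.add_sub_cancel_left, pow_add _ (k + 1) d, mul_assoc,
            mul_assoc (pull j (cl OE) ^ (k + 1)), ← mul_pow, ← map_mul, hOI, map_one, one_pow, mul_one])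
        haveI : Coh.IsQCoh ((Scheme.Modules.pullback j).obj P) :=
          (CurvLib.isCoh_of_isInvertible (AmpleDevLib.isInvertible_pb j hP)).1
        obtain ⟨ep⟩ := RpushLib.nonempty_rpush_push_iso j f ((Scheme.Modules.pullback j).obj P) i
        exact ((hz.of_iso ((Coh.Rpush πE i).mapIso iso)).of_iso ep).of_iso ((Coh.Rpush f i).mapIso e₃)
      exact (isZero_rpush_mid f hSq i h1 h3).of_iso ((Coh.Rpush f i).mapIso e₂.symm)
  let L := CohB1.tensorMod L0 (CohB1.tensorPow OE m)
  have hL : PicF.IsInvertible L := HilbPolyLib.isInvertible_tensor hL0i (AmpleThLib.tensorPow_isInvertible hOEi m)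
  refine Groth.Agent.S18168.result f L hL q π hπq hπ M hMi hMa s hs e (r * B)
    (Nat.mul_pos hr (by simp only [B]; omega)) fun i jj hi hj => ?_
  obtain ⟨iso⟩ := cl_eq_iff.1 (show cl (CohB1.tensorPow L (jj * (r * B))) =
      cl (CohB1.tensorMod (CohB1.tensorPow L0 (r * (jj * B))) (CohB1.tensorPow OE (m * r * (jj * B)))) by
    simp only [L, cl_tensor, cl_tensorPow', mul_pow, ← pow_mul]
    rw [show jj * (r * B) = r * (jj * B) from mul_left_comm _ _ _, mul_assoc m r (jj * B)])
  exact (hX (jj * B) (Nat.le_mul_of_pos_left B hj) _ le_rfl i hi).of_iso ((Coh.Rpush f i).mapIso iso)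

end ContrFibLib

end
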